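import Mathlib.RingTheory.GradedAlgebra.HomogeneousLocalization
import Mathlib.RingTheory.IsTensorProduct
import Mathlib.RingTheory.TensorProduct.Basic
import Mathlib.LinearAlgebra.TensorProduct.RightExactness
import Mathlib.Algebra.Category.Ring.Constructions

/-!
# Base change of homogeneous localizations

For a graded `R'`-algebra `B`, a ring map `R' → R` and `A = B ⊗_{R'} R` with the induced grading, the ring
`A_(s)` is the base change of `B_(s)`.
-/

set_option autoImplicit false
universe u

open HomogeneousLocalization TensorProduct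

namespace Groth.Agent.Ega2.H267.AwayBC

section colim

variable {R' R : Type*} [CommRing R'] [CommRing R] [Algebra R' R]
  {M N : ℕ → Type*} [∀ n, AddCommGroup (M n)] [∀ n, Module R' (M n)] [∀ n, AddCommGroup (N n)]
  [∀ n, Module R' (N n)] [∀ n, Module R (N n)] [∀ n, IsScalarTower R' R (N n)]
  {H H' : Type*} [AddCommGroup H] [Module R' H] [AddCommGroup H'] [Module R' H'] [Module R H']
  [IsScalarTower R' R H']

lemma liftBaseChange_bijective {M' N' : Type*} [AddCommGroup M'] [Module R' M'] [AddCommGroup N']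
    [Module R' N'] [Module R N'] [IsScalarTower R' R N'] (f : M' →ₗ[R'] N') :
    IsBaseChange R f ↔ Function.Bijective (f.liftBaseChange R) := by
  constructor
  · intro h
    have : f.liftBaseChange R = h.equiv.toLinearMap := by
      ext b
      simp
    rw [this]
    exact h.equiv.bijective
  · intro h
    exact IsBaseChange.of_equiv (LinearEquiv.ofBijective _ h) (fun x => by simp)

/-- Base change commutes with sequential colimits (in concrete form). -/
theorem isBaseChange_of_colim (f : ∀ n, M n →ₗ[R'] N n) (hf : ∀ n, IsBaseChange R (f n))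
    (g : H →ₗ[R'] H') (D : ∀ n, M n →ₗ[R'] H) (D' : ∀ n, N n →ₗ[R] H')
    (T : ∀ k n, M n →ₗ[R'] M (k + n)) (T' : ∀ k n, N n →ₗ[R] N (k + n))
    (hfT : ∀ k n x, f (k + n) (T k n x) = T' k n (f n x))
    (hD : ∀ k n x, D (k + n) (T k n x) = D n x)
    (hgD : ∀ n x, g (D n x) = D' n (f n x))
    (hsD : ∀ x : H, ∃ n y, D n y = x) (hsD' : ∀ x : H', ∃ n y, D' n y = x)
    (hk : ∀ n y, D' n y = 0 → ∃ k, T' k n y = 0) : IsBaseChange R g := by
  rw [liftBaseChange_bijective]
  have h1 : ∀ n (t : R ⊗[R'] M n), g.liftBaseChange R ((D n).baseChange R t) =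
      D' n ((f n).liftBaseChange R t) := by
    intro n t
    induction t with
    | zero => simp
    | tmul r x => simp [hgD]
    | add x y hx hy => simp only [map_add, hx, hy]
  have h2 : ∀ k n (t : R ⊗[R'] M n), (D (k + n)).baseChange R ((T k n).baseChange R t) =
      (D n).baseChange R t := by
    intro k n t
    induction t with
    | zero => simp
    | tmul r x => simp [hD]
    | add x y hx hy => simp only [map_add, hx, hy]
  have h3 : ∀ k n (t : R ⊗[R'] M n), (f (k + n)).liftBaseChange R ((T k n).baseChange R t) =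
      T' k n ((f n).liftBaseChange R t) := by
    intro k n t
    induction t with
    | zero => simp
    | tmul r x => simp [hfT]
    | add x y hx hy => simp only [map_add, hx, hy]
  have h4 : ∀ x : R ⊗[R'] H, ∃ n t, (D n).baseChange R t = x := by
    intro x
    induction x with
    | zero => exact ⟨0, 0, by simp⟩
    | tmul r x =>
      obtain ⟨n, y, rfl⟩ := hsD x
      exact ⟨n, r ⊗ₜ y, by simp⟩
    | add x y hx hy =>
      obtain ⟨n, t, rfl⟩ := hx
      obtain ⟨m, t', rfl⟩ := hy
      refine ⟨m + n, (T m n).baseChange R t + ?_, ?_⟩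
      · exact (add_comm n m) ▸ ((T n m).baseChange R t')
      · rw [map_add, h2]
        congr 1
        rw [← h2 n m t']
        have : ∀ (a b : ℕ) (h : a = b) (z : R ⊗[R'] M a), (D b).baseChange R (h ▸ z) =
            (D a).baseChange R z := by
          rintro a b rfl z
          rfl
        exact this _ _ (add_comm n m) _
  constructor
  · rw [injective_iff_map_eq_zero]
    intro x hx
    obtain ⟨n, t, rfl⟩ := h4 x
    rw [h1] at hx
    obtain ⟨k, hk⟩ := hk n _ hx
    rw [← h3] at hk
    have := ((liftBaseChange_bijective (f (k + n))).mp (hf (k + n))).1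
    rw [injective_iff_map_eq_zero] at this
    rw [← h2 k n, this _ hk, map_zero]
  · intro x
    obtain ⟨n, y, rfl⟩ := hsD' x
    obtain ⟨t, rfl⟩ := ((liftBaseChange_bijective (f n)).mp (hf n)).2 y
    exact ⟨_, h1 n t⟩

end colim

section one

variable {R' B : Type u} [CommRing R'] [CommRing B] [Algebra R' B] (ℬ : ℕ → Submodule R' B)
  [GradedAlgebra ℬ]

/-- The `R'`-algebra structure map of `B_(s)`. -/
noncomputable def algR (s : B) : R' →+* Away ℬ s :=
  (fromZeroRingHom ℬ _).comp (algebraMap R' (ℬ 0))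

lemma val_algR (s : B) (r : R') : (algR ℬ s r).val =
    algebraMap B (Localization.Away s) (algebraMap R' B r) := rfl

variable {ℬ}

lemma mk_smul_eq {s : B} {n : ℕ} {i : ℕ} (hs : s ∈ ℬ i) (x : B) (hx : x ∈ ℬ (n • i)) (r : R')
    (hrx : r • x ∈ ℬ (n • i)) :
    Away.mk ℬ hs n (r • x) hrx = algR ℬ s r * Away.mk ℬ hs n x hx := by
  apply HomogeneousLocalization.val_injective
  rw [val_mul, val_algR, Away.val_mk, Away.val_mk, ← Localization.mk_one_eq_algebraMap,
    Localization.mk_mul, one_mul, Algebra.smul_def]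

lemma mk_add_eq {s : B} {n : ℕ} {i : ℕ} (hs : s ∈ ℬ i) (x y : B) (hx : x ∈ ℬ (n • i))
    (hy : y ∈ ℬ (n • i)) :
    Away.mk ℬ hs n (x + y) (add_mem hx hy) = Away.mk ℬ hs n x hx + Away.mk ℬ hs n y hy := by
  apply HomogeneousLocalization.val_injective
  rw [val_add, Away.val_mk, Away.val_mk, Away.val_mk, Localization.add_mk_self]

/-- multiplication by `s^k` as a map of graded pieces. -/
noncomputable def mulMap {s : B} {i : ℕ} (hs : s ∈ ℬ i) (k n : ℕ) :
    ℬ (n • i) →ₗ[R'] ℬ ((k + n) • i) where
  toFun b := ⟨s ^ k * b.1, by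
    rw [add_smul]; exact SetLike.mul_mem_graded (SetLike.pow_mem_graded k hs) b.2⟩
  map_add' x y := by ext; simp [mul_add]
  map_smul' r x := by ext; simp

lemma mk_mulMap {s : B} {i : ℕ} (hs : s ∈ ℬ i) (k n : ℕ) (x : ℬ (n • i)) :
    Away.mk ℬ hs (k + n) (mulMap hs k n x).1 (mulMap hs k n x).2 = Away.mk ℬ hs n x.1 x.2 := by
  apply HomogeneousLocalization.val_injective
  rw [Away.val_mk, Away.val_mk, Localization.mk_eq_mk_iff, Localization.r_iff_exists]
  refine ⟨1, ?_⟩
  change 1 * (s ^ n * (s ^ k * x.1)) = 1 * (s ^ (k + n) * x.1)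
  rw [pow_add]; ring

lemma mk_eq_zero {s : B} {i : ℕ} (hs : s ∈ ℬ i) (n : ℕ) (x : ℬ (n • i))
    (h : Away.mk ℬ hs n x.1 x.2 = 0) : ∃ k, mulMap hs k n x = 0 := by
  have h1 := congrArg HomogeneousLocalization.val h
  rw [Away.val_mk, val_zero, ← Localization.mk_zero 1, Localization.mk_eq_mk_iff,
    Localization.r_iff_exists] at h1
  obtain ⟨⟨_, k, rfl⟩, hk⟩ := h1
  refine ⟨k, Subtype.ext ?_⟩
  have h2 : s ^ k * x.1 = 0 := by simpa using hk
  exact h2

end one

section two

variable {R A R' B : Type u} [CommRing R'] [CommRing R] [Algebra R' R]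
    [CommRing B] [Algebra R' B] {ℬ : ℕ → Submodule R' B} [GradedAlgebra ℬ]
    [CommRing A] [Algebra R A] [Algebra R' A] [IsScalarTower R' R A] {𝒜 : ℕ → Submodule R A}
    [GradedAlgebra 𝒜]
    [Algebra B A] [IsScalarTower R' B A]
    (φ : ℬ →+*ᵍ 𝒜) (hφA : ∀ b : B, φ b = algebraMap B A b)

include hφA in
lemma map_algR (s : B) (r : R') :
    Away.map φ s (algR ℬ s r) = algR 𝒜 (φ s) (algebraMap R' R r) := by
  apply HomogeneousLocalization.val_injective
  rw [val_algR]
  change (Away.map φ s (HomogeneousLocalization.mk _)).val = _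
  rw [Away.map, HomogeneousLocalization.map_mk, HomogeneousLocalization.val_mk]
  rw [← Localization.mk_one_eq_algebraMap, Localization.mk_eq_mk_iff, Localization.r_iff_exists]
  refine ⟨1, ?_⟩
  have h1 : φ (algebraMap R' B r : B) = algebraMap R A (algebraMap R' R r) := by
    rw [hφA]
    rw [← IsScalarTower.algebraMap_apply R' B A, ← IsScalarTower.algebraMap_apply R' R A]
  simp [h1]

/-- The induced maps of graded pieces. -/
noncomputable def pieceMap (k : ℕ) : ℬ k →ₗ[R'] 𝒜 k where
  toFun b := ⟨φ b.1, φ.2 b.2⟩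
  map_add' x y := by ext; simp
  map_smul' r x := by
    ext
    simp [hφA, Algebra.smul_def, ← IsScalarTower.algebraMap_apply]

/-- The projection to a graded piece, as a linear map. -/
noncomputable def projL {R' B : Type u} [CommRing R'] [CommRing B] [Algebra R' B] (ℬ : ℕ → Submodule R' B)
    [GradedAlgebra ℬ] (k : ℕ) : B →ₗ[R'] ℬ k :=
  (DirectSum.component R' ℕ (fun i => ℬ i) k).comp (DirectSum.decomposeLinearEquiv ℬ).toLinearMap

lemma projL_apply {R' B : Type u} [CommRing R'] [CommRing B] [Algebra R' B] (ℬ : ℕ → Submodule R' B)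
    [GradedAlgebra ℬ] (k : ℕ) (b : B) : projL ℬ k b = DirectSum.decompose ℬ b k := rfl

theorem isBaseChange_pieceMap [h : Algebra.IsPushout R' R B A] (k : ℕ) :
    IsBaseChange R (pieceMap φ hφA k) := by
  have hb := (liftBaseChange_bijective (IsScalarTower.toAlgHom R' B A).toLinearMap).mp h.out
  rw [liftBaseChange_bijective]
  have h1 : ∀ t : R ⊗[R'] ℬ k, ((pieceMap φ hφA k).liftBaseChange R t : A) =
      (IsScalarTower.toAlgHom R' B A).toLinearMap.liftBaseChange R
        ((ℬ k).subtype.baseChange R t) := by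
    intro t
    induction t with
    | zero => simp
    | tmul r x => simp [pieceMap, hφA]
    | add x y hx hy => simp only [map_add, Submodule.coe_add, hx, hy]
  have h2 : ∀ t : R ⊗[R'] B, (pieceMap φ hφA k).liftBaseChange R ((projL ℬ k).baseChange R t) =
      projL 𝒜 k ((IsScalarTower.toAlgHom R' B A).toLinearMap.liftBaseChange R t) := by
    intro t
    induction t with
    | zero => simp
    | tmul r x =>
      simp only [LinearMap.baseChange_tmul, LinearMap.liftBaseChange_tmul, map_smul]
      congr 1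
      ext
      change φ (DirectSum.decompose ℬ x k) = DirectSum.decompose 𝒜 (algebraMap B A x) k
      rw [← hφA]
      exact map_directSumDecompose ..
    | add x y hx hy => simp only [map_add, hx, hy]
  constructor
  · rw [injective_iff_map_eq_zero]
    intro t ht
    have h3 := h1 t
    rw [ht, ZeroMemClass.coe_zero] at h3
    have h4 := (injective_iff_map_eq_zero _).mp hb.1 _ h3.symm
    have h5 : (projL ℬ k).baseChange R ((ℬ k).subtype.baseChange R t) = t := by
      rw [← LinearMap.comp_apply, ← LinearMap.baseChange_comp]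
      have : projL ℬ k ∘ₗ (ℬ k).subtype = LinearMap.id := by
        ext x
        simp [projL_apply]
      rw [this]
      simp
    rw [← h5, h4, map_zero]
  · intro a
    obtain ⟨t, ht⟩ := hb.2 a.1
    refine ⟨(projL ℬ k).baseChange R t, ?_⟩
    rw [h2, ht]
    ext
    simp [projL_apply]

open CategoryTheory CategoryTheory.Limits in
include hφA in
theorem isPushout_aux [h : Algebra.IsPushout R' R B A] {i : ℕ} (s : B) (hs : s ∈ ℬ i)
    {H H' : Type u} [CommRing H] [CommRing H'] (a : R' →+* H) (a' : R →+* H') (g : H →+* H')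
    (hg : ∀ r, g (a r) = a' (algebraMap R' R r))
    (D : ∀ n, ℬ (n • i) → H) (hDa : ∀ n x y, D n (x + y) = D n x + D n y)
    (hDs : ∀ n r x, D n (r • x) = a r * D n x)
    (D' : ∀ n, 𝒜 (n • i) → H') (hDa' : ∀ n x y, D' n (x + y) = D' n x + D' n y)
    (hDs' : ∀ n r x, D' n (r • x) = a' r * D' n x)
    (hD : ∀ k n x, D (k + n) (mulMap hs k n x) = D n x)
    (hgD : ∀ n x, g (D n x) = D' n (pieceMap φ hφA _ x))
    (hsD : ∀ x : H, ∃ n y, D n y = x) (hsD' : ∀ x : H', ∃ n y, D' n y = x)
    (hk : ∀ n y, D' n y = 0 → ∃ k, mulMap (φ.2 hs) k n y = 0) :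
    IsPushout (CommRingCat.ofHom (algebraMap R' R)) (CommRingCat.ofHom a)
      (CommRingCat.ofHom a') (CommRingCat.ofHom g) := by
  let _ : Algebra R' H := a.toAlgebra
  let _ : Algebra R H' := a'.toAlgebra
  let _ : Algebra R' H' := (a'.comp (algebraMap R' R)).toAlgebra
  let _ : Algebra H H' := g.toAlgebra
  have : IsScalarTower R' R H' := .of_algebraMap_eq' rfl
  have : IsScalarTower R' H H' := .of_algebraMap_eq' (RingHom.ext fun r => (hg r).symm)
  have key : IsBaseChange R (IsScalarTower.toAlgHom R' H H').toLinearMap :=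
    isBaseChange_of_colim (fun n => pieceMap φ hφA (n • i))
      (fun n => isBaseChange_pieceMap φ hφA _) _
      (fun n => { toFun := D n, map_add' := hDa n, map_smul' := hDs n })
      (fun n => { toFun := D' n, map_add' := hDa' n, map_smul' := hDs' n })
      (fun k n => mulMap hs k n)
      (fun k n => mulMap (φ.2 hs) k n)
      (fun k n x => Subtype.ext (by
        change φ (s ^ k * x.1) = (φ s) ^ k * φ x.1
        rw [map_mul, map_pow]))
      hD hgD hsD hsD' hk
  have : Algebra.IsPushout R' R H H' := ⟨key⟩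
  exact CommRingCat.isPushout_of_isPushout R' R H H'

open CategoryTheory CategoryTheory.Limits in
include hφA in
/-- **Base change of homogeneous localizations**. -/
theorem isPushout_away [h : Algebra.IsPushout R' R B A] {i : ℕ} (s : B) (hs : s ∈ ℬ i) :
    IsPushout (CommRingCat.ofHom (algebraMap R' R)) (CommRingCat.ofHom (algR ℬ s))
      (CommRingCat.ofHom (algR 𝒜 (φ s))) (CommRingCat.ofHom (Away.map φ s)) := by
  refine isPushout_aux φ hφA s hs _ _ _ (map_algR φ hφA s)
    (fun n b => Away.mk ℬ hs n b.1 b.2) (fun n x y => mk_add_eq hs x.1 y.1 x.2 y.2)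
    (fun n r x => mk_smul_eq hs x.1 x.2 r _)
    (fun n b => Away.mk 𝒜 (φ.2 hs) n b.1 b.2) (fun n x y => mk_add_eq (φ.2 hs) x.1 y.1 x.2 y.2)
    (fun n r x => mk_smul_eq (φ.2 hs) x.1 x.2 r _) (fun k n x => mk_mulMap hs k n x)
    (fun n x => ?_) (fun x => ?_) (fun x => ?_) (fun n y hy => mk_eq_zero (φ.2 hs) n y hy)
  · change Away.map φ s (Away.mk ℬ hs n x.1 x.2) = Away.mk 𝒜 (φ.2 hs) n (φ x.1) _
    rw [Away.map_mk]
  · obtain ⟨n, a, ha, h⟩ := Away.mk_surjective ℬ hs x
    exact ⟨n, ⟨a, ha⟩, h⟩
  · obtain ⟨n, a, ha, h⟩ := Away.mk_surjective 𝒜 (φ.2 hs) x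
    exact ⟨n, ⟨a, ha⟩, h⟩

end two

end Groth.Agent.Ega2.H267.AwayBC
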