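import Groth.Agent.Ega2.H267.AwayBC
import Mathlib.AlgebraicGeometry.ProjectiveSpectrum.Functor
import Mathlib.AlgebraicGeometry.Pullbacks

/-!
# `Proj` commutes with base change
-/

set_option autoImplicit false
universe u

open CategoryTheory CategoryTheory.Limits AlgebraicGeometry HomogeneousLocalization

namespace Groth.Agent.Ega2.H267.ProjBC

open AwayBC

variable {R A R' B : Type u} [CommRing R'] [CommRing R] [Algebra R' R]
    [CommRing B] [Algebra R' B] {ℬ : ℕ → Submodule R' B} [GradedAlgebra ℬ]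
    [CommRing A] [Algebra R A] [Algebra R' A] [IsScalarTower R' R A] {𝒜 : ℕ → Submodule R A}
    [GradedAlgebra 𝒜]
    [Algebra B A] [IsScalarTower R' B A]
    (φ : ℬ →+*ᵍ 𝒜) (hφA : ∀ b : B, φ b = algebraMap B A b)
    (hφ : HomogeneousIdeal.irrelevant 𝒜 ≤ (HomogeneousIdeal.irrelevant ℬ).map φ)

lemma awayι_toSpec {R' B : Type u} [CommRing R'] [CommRing B] [Algebra R' B]
    (ℬ : ℕ → Submodule R' B) [GradedAlgebra ℬ] {i : ℕ} (hi : 0 < i) (s : B) (hs : s ∈ ℬ i) :
    Proj.awayι ℬ s hs hi ≫ Proj.toSpecZero ℬ ≫ Spec.map (CommRingCat.ofHom (algebraMap R' (ℬ 0))) =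
      Spec.map (CommRingCat.ofHom (algR ℬ s)) := by
  rw [← Category.assoc]
  erw [Proj.awayι_toSpecZero]
  rw [← Spec.map_comp, ← CommRingCat.ofHom_comp]
  rfl

omit [Algebra R' R] [Algebra R' A] [IsScalarTower R' R A] [Algebra B A] [IsScalarTower R' B A] in
lemma isPullback_chart {i : ℕ} (hi : 0 < i) (s : B) (hs : s ∈ ℬ i) :
    IsPullback (Spec.map (CommRingCat.ofHom (Away.map φ s))) (Proj.awayι 𝒜 (φ s) (φ.2 hs) hi)
      (Proj.awayι ℬ s hs hi) (Proj.map φ hφ) := by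
  apply IsOpenImmersion.isPullback
  · exact Proj.awayι_comp_map φ hφ hi s hs
  · have h1 : (Proj.awayι ℬ s hs hi).opensRange = Proj.basicOpen ℬ s :=
      Proj.opensRange_awayι _ _ _ _
    have h2 : (Proj.awayι 𝒜 (φ s) (φ.2 hs) hi).opensRange = Proj.basicOpen 𝒜 (φ s) :=
      Proj.opensRange_awayι _ _ _ _
    rw [h1, h2]
    rfl

include hφA in
theorem isPullback_proj_map [Algebra.IsPushout R' R B A] :
    IsPullback (Proj.map φ hφ)
      (Proj.toSpecZero 𝒜 ≫ Spec.map (CommRingCat.ofHom (algebraMap R (𝒜 0))))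
      (Proj.toSpecZero ℬ ≫ Spec.map (CommRingCat.ofHom (algebraMap R' (ℬ 0))))
      (Spec.map (CommRingCat.ofHom (algebraMap R' R))) := by
  refine Scheme.isPullback_of_openCover _ _ _ _ (Proj.affineOpenCover ℬ).openCover fun j => ?_
  have hi : 0 < (j.1.1 : ℕ) := j.1.2
  have hs : (j.2.1 : B) ∈ ℬ (j.1.1 : ℕ) := j.2.2
  have h1 := isPullback_chart φ hφ hi j.2.1 hs
  have h2 := isPullback_SpecMap_of_isPushout _ _ _ _ (isPushout_away φ hφA j.2.1 hs)
  let e := h1.flip.isoPullback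
  refine IsPullback.of_iso h2.flip e (Iso.refl _) (Iso.refl _) (Iso.refl _) ?_ ?_ ?_ ?_
  · change _ ≫ _ = e.hom ≫ pullback.snd _ _
    simp only [e, IsPullback.isoPullback_hom_snd]
    exact Category.comp_id _
  · change _ ≫ _ = e.hom ≫ pullback.fst _ _ ≫ _
    rw [Iso.refl_hom, Category.comp_id]
    simp only [e, IsPullback.isoPullback_hom_fst_assoc]
    exact (awayι_toSpec 𝒜 hi _ _).symm
  · change _ ≫ 𝟙 _ = 𝟙 _ ≫ Proj.awayι ℬ _ _ _ ≫ _
    rw [Category.comp_id, Category.id_comp, awayι_toSpec]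
  · simp

end Groth.Agent.Ega2.H267.ProjBC
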